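import Cfsg.Agent.H396.PC.MultSix
import Cfsg.Agent.H661.OC.RowFrame
import Cfsg.Agent.H151.OC.HThree
import Cfsg.Agent.H776.CY.Congr
import Cfsg.Agent.H40.Ch.Data

/-!
# S4829, own characteristic: the row from the adjoint data of helper928 (helper396)

`rowA_data` : `H : Data cs h p T n X x D` on the simple group `Y`, `CommGen cs h X`, an anti-automorphism of `Gad D`, one
element `t ∈ T` acting on the simple root groups by scalars `c i` with `∏ i, eta (c i) = -1`: `RowA p Y`.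
-/

set_option autoImplicit false
set_option linter.unusedSectionVars false

namespace Cfsg.Agent.H396.PC

open Cfsg Cfsg.Agent.H148.GG Cfsg.Agent.H40.OC Cfsg.Agent.H928.Ad Cfsg.Agent.H40.Ch Cfsg.Agent.H770.CY
open Cfsg.Agent.H712.OC (eta)

open CoxeterSystem Cfsg.Agent.ChevalleyStructure.CoxeterGeom Cfsg.Agent.Tits.Roots Cfsg.Agent.Tits.Core
  Cfsg.Agent.Nodes.Reps Cfsg.Agent.Nodes.BNOf Cfsg.Agent.Nodes.Bruhat Cfsg.Agent.Nodes.RGDLib
open Cfsg.Agent.Omega.EH3.Kf.Lev (CommGen)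

universe u v

variable {I W : Type*} {Y : Type u} [Fintype I] [DecidableEq I] [Group W] [Group Y] {M : CoxeterMatrix I}
  {cs : CoxeterSystem M W} {A : I → I → ℤ} {h : IsCartan M A} {p : ℕ} {T : Subgroup Y} {n : I → Y}
  {X : (I → ℤ) → Subgroup Y} {K : (I → ℤ) → Type v} [∀ z, Field (K z)] {x : ∀ z, K z → Y}

/-- transport of (H1) -/
theorem hOne_congr {p : ℕ} [Fact p.Prime] {Y : Type u} {Z : Type v} [Group Y] [Group Z] [Finite Z] (e : Y ≃* Z)
    (hS : ∀ a : MulAut Y, ¬ p ∣ orderOf a → (∃ Q : Sylow p Y, ∀ x ∈ Q, a x = x) → a = 1)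
    (a : MulAut Z) (ha : ¬ p ∣ orderOf a) (hQ : ∃ Q : Sylow p Z, ∀ x ∈ Q, a x = x) : a = 1 := by
  obtain ⟨Q, hQ⟩ := hQ
  have h1 : orderOf ((MulAut.congr e).symm a) = orderOf a := MulEquiv.orderOf_eq (MulAut.congr e).symm a
  have h2 : (MulAut.congr e).symm a = 1 := by
    refine hS _ (by rwa [h1]) ⟨Q.mapSurjective (f := e.symm.toMonoidHom) e.symm.surjective, fun x hx => ?_⟩
    obtain ⟨q, hq, rfl⟩ := Subgroup.mem_map.1 hx
    show e.symm (a (e (e.symm q))) = e.symm q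
    rw [MulEquiv.apply_symm_apply, hQ q hq]
  exact (MulEquiv.map_eq_one_iff (MulAut.congr e).symm).1 h2

/-- **the row from adjoint data** -/
theorem rowA_data [Finite W] [Fintype Y] [∀ i : I, Finite (K (sr i))] [IsSimpleGroup Y] (hna : ¬ IsMulCommutative Y) [hp : Fact p.Prime] (hp2 : p ≠ 2)
    {D : Subgroup (MulAut Y)} (H : Data cs h p T n X x D)
    (hC : CommGen cs h X) {φ : ↥(Gad D) → ↥(Gad D)} (hφ : H92.GG.Anti cs h (Tad D) (Xad X D) φ)
    (hS : ∀ a : MulAut Y, ¬ p ∣ orderOf a → (∃ Q : Sylow p Y, ∀ x ∈ Q, a x = x) → a = 1)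
    {t : Y} (ht : t ∈ T) (c : ∀ i, (K (sr i))ˣ) (hc : ∀ i a, t * x (sr i) a * t⁻¹ = x (sr i) ((c i : K (sr i)) * a))
    (hsgn : ∏ i, eta (K (sr i)) (c i) = -1) : RowA p Y := by
  classical
  have A := H.adj
  have R : RGD cs h p (Tad D) (fun i => emb D (n i)) (Xad X D) := A.rgd
  let P := par A.sys A.full
  have hcomm : ∀ s ∈ Tad D, ∀ t ∈ Tad D, s * t = t * s := fun s hs t ht => A.comm s hs t ht
  have hC' : CommGen cs h (Xad X D) := by
    have h1 : Xad X D = fun z => (X z).map (emb D) := funext fun z => Xad_eq X D z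
    rw [h1]
    exact H969.TT.DichIso.map_commGen (emb D) hC
  have hN := lin_of_commGen R hC' P.adj
  have hT := faithful R A.gen hcomm A.cen P.adj
  have hUS : UU cs h (Xad X D) ≤ (emb D).range := by
    rw [← H.G1']
    exact RGD.Sup_mono fun x hx => hx.1
  have hn : (emb D).range.Normal := by
    constructor
    rintro _ ⟨y, rfl⟩ g
    refine ⟨(g : MulAut Y) y, Subtype.ext ?_⟩
    exact (mul_conj_inv (g : MulAut Y) y).symm
  have e : Y ≃* ↥(emb D).range := MonoidHom.ofInjective H.inj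
  have : Fintype ↥(Gad D) := Fintype.ofFinite _
  have : Fintype ↥(emb D).range := Fintype.ofFinite _
  have hs : IsSimpleGroup ↥(emb D).range := e.symm.isSimpleGroup
  have hna' : ¬ IsMulCommutative ↥(emb D).range := fun h => hna ⟨⟨fun a b => e.injective (by
    rw [map_mul, map_mul]
    exact h.is_comm.comm _ _)⟩⟩
  have hm : Cfsg.Agent.H743.GG.MultOne cs h (Tad D) (Xad X D) :=
    multOne' R P.adj hφ fun i => (P.e i).symm.injective
  have hodd : ∀ i, Odd (Nat.card (K (sr i))) := by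
    intro i
    have h1 : CharP (K (sr i)) p := Cfsg.Agent.H992.MU.charP_F R P.adj i
    have := Fintype.ofFinite (K (sr i))
    obtain ⟨k, -, hk⟩ := FiniteField.card (K (sr i)) p
    rw [Nat.card_eq_fintype_card, hk]
    exact (hp.out.odd_of_ne_two hp2).pow
  have ht1 : emb D t ∈ Tad D := H.tor t ht
  have hsc : ∀ i, P.adj.a i ⟨emb D t, ht1⟩ = c i := by
    intro i
    refine P.uniq i (t := emb D t) (P.a_spec i ⟨emb D t, ht1⟩) fun s => ?_
    show emb D t * emb D (x (sr i) s) * (emb D t)⁻¹ = emb D (x (sr i) ((c i : K (sr i)) * s))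
    rw [← hc i s, map_mul, map_mul, map_inv]
  refine H776.CY.RowA.congr e ?_
  refine Cfsg.Agent.H661.OC.rowA_frame_of R P.adj A.gen hN hUS hna' (hOne_congr e hS) hodd (t := emb D t) ht1 ⟨t, rfl⟩ ?_
    fun lam h2 hlam θ hd hne => ?_
  · rw [← hsgn]
    exact Finset.prod_congr rfl fun i _ => by rw [hsc i]
  · exact Cfsg.Agent.H151.OC.h_three_cyc' R P.adj A.gen hT hm hN (emb D).range hUS lam (fun u hu => hlam ⟨u, _⟩ hu) h2
      θ.2 hd hne

end Cfsg.Agent.H396.PC
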