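import Cfsg.Agent.H992.MU.Braid

/-!
# The exact braid relation of length six of the `μ`-elements (helper396)

The case `M i j = 6` missing in `H992/MU/Braid`.
-/

set_option autoImplicit false
set_option linter.unusedSectionVars false

namespace Cfsg.Agent.H396.PC

open CoxeterSystem Cfsg.Agent.ChevalleyStructure.CoxeterGeom Cfsg.Agent.Tits.Roots Cfsg.Agent.Tits.Core
  Cfsg.Agent.Tits.Exchange Cfsg.Agent.Nodes.Reps Cfsg.Agent.Nodes.BNOf Cfsg.Agent.Nodes.OppDec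
  Cfsg.Agent.Nodes.MuSq Cfsg.Agent.H992.MU
open scoped commutatorElement

variable {I W Y : Type*} [Fintype I] [DecidableEq I] [Group W] [Group Y] {M : CoxeterMatrix I}
  {cs : CoxeterSystem M W} {A : I → I → ℤ} {h : IsCartan M A} {p : ℕ} {T : Subgroup Y} {n : I → Y}
  {X : (I → ℤ) → Subgroup Y}

variable (R : RGD cs h p T n X)

include R

/-- the factor in `X (α_j)` of an element of `V_j X (α_j) V'`, `V'` a product of negative root groups -/
theorem sep_j [Finite W] {j : I} {u v x d : Y} (hu : u ∈ RGD.Sup X (RGD.PosNe cs h j))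
    (hv : v ∈ RGD.Sup X {z : I → ℤ | IsRoot cs h z ∧ z ≤ 0 ∧ z ≠ -sr j}) (hd : d ∈ X (sr j)) (hx : x ∈ X (sr j))
    (e : u * d * v = x) : x = d := by
  have hr := rp_simple cs R.nsys j
  have h1 : n j * u * (n j)⁻¹ ∈ RGD.B cs h T X := by
    have h2 : n j * u * (n j)⁻¹ ∈ cj (n j) (RGD.Sup X (RGD.PosNe cs h j)) := conj_mem_cj.2 hu
    rw [R.cj_n_V j] at h2
    have h3 : RGD.PosNe cs h j ⊆ RGD.Pos cs h := fun z hz => ⟨hz.1, hz.2.1⟩
    exact RGD.U_le_B (RGD.Sup_mono h3 h2)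
  have hxn : ∀ y ∈ X (sr j), n j * y * (n j)⁻¹ ∈ UN cs h X := fun y hy => by
    have h2 := R.conj_mem hr (isRoot_sr cs h j) hy
    rw [rep_simple_sr] at h2
    exact X_le_UN (isRoot_sr cs h j).neg (neg_nonpos.2 (sr_nonneg j)) h2
  have hvn : n j * v * (n j)⁻¹ ∈ UN cs h X := by
    have h2 : n j * v * (n j)⁻¹ ∈ cj (n j) (RGD.Sup X {z : I → ℤ | IsRoot cs h z ∧ z ≤ 0 ∧ z ≠ -sr j}) :=
      conj_mem_cj.2 hv
    rw [RGD.cj_Sup] at h2
    refine (iSup_le ?_ : _ ≤ UN cs h X) h2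
    rintro ⟨z, hz, hz0, hzj⟩
    rw [R.conj j z hz]
    refine X_le_UN (hz.act _) ?_
    have h3 := hz.neg.simple_nonneg (neg_nonneg.2 hz0) j (fun h4 => hzj (by rw [← h4, neg_neg]))
    rw [map_neg] at h3
    exact neg_nonneg.1 h3
  have eu : u = x * v⁻¹ * d⁻¹ := by rw [← e]; group
  have h3 : n j * u * (n j)⁻¹ ∈ UN cs h X := by
    have h4 : n j * u * (n j)⁻¹ = (n j * x * (n j)⁻¹) * (n j * v * (n j)⁻¹)⁻¹ * (n j * d * (n j)⁻¹)⁻¹ := by
      rw [eu]; group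
    rw [h4]
    exact mul_mem (mul_mem (hxn x hx) (inv_mem hvn)) (inv_mem (hxn d hd))
  have h4 : u = 1 := by
    have h5 := eq_one_of_mem_UN_of_mem_B R h3 h1
    have h6 : u = (n j)⁻¹ * (n j * u * (n j)⁻¹) * n j := by group
    rw [h6, h5]; group
  rw [h4, one_mul] at e
  have h5 : v = d⁻¹ * x := by rw [← e]; group
  have h6 : v ∈ RGD.B cs h T X := by
    rw [h5]
    exact RGD.X_le_B (isRoot_sr cs h j) (sr_nonneg j) (mul_mem (inv_mem hd) hx)
  have h8 : {z : I → ℤ | IsRoot cs h z ∧ z ≤ 0 ∧ z ≠ -sr j} ⊆ Neg cs h := fun z hz => ⟨hz.1, hz.2.1⟩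
  have h7 : v = 1 := eq_one_of_mem_UN_of_mem_B R (RGD.Sup_mono h8 hv) h6
  rw [h7, mul_one] at e
  exact e.symm

section

variable [Finite W] {i j : I} (hij : i ≠ j) {a c m d f N : Y} (H : Mu R 1 i a c m) (H' : Mu R 1 j d f N)

include hij H H'

theorem braid6 (hM : M i j = 6) : m * N * m * N * m * N = N * m * N * m * N * m := by
  obtain ⟨k, l, hk, hl, hkl, hk0, hl0⟩ : ∃ k l : ℤ, k = -A i j ∧ l = -A j i ∧ k * l = 3 ∧ 0 < k ∧ 0 < l := by
    rcases h.rel i j hij with h1 | h1 | h1 | h1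
    · omega
    · omega
    · omega
    · rcases h1.2 with ⟨h2, h3⟩ | ⟨h2, h3⟩
      · exact ⟨1, 3, by rw [h2]; rfl, by rw [h3]; rfl, by norm_num, by norm_num, by norm_num⟩
      · exact ⟨3, 1, by rw [h2]; rfl, by rw [h3]; rfl, by norm_num, by norm_num, by norm_num⟩
  have hM' : M j i ≠ 2 := by rw [M.symmetric]; omega
  have hM2 : M i j ≠ 2 := by omega
  have eij : rep cs h (cs.simple i) (sr j) = sr j + k • sr i := by rw [si_sj h, hk]
  have eji : rep cs h (cs.simple j) (sr i) = sr i + l • sr j := by rw [si_sj h, hl]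
  -- the roots
  have e2 : rep cs h ((1 : W) * cs.simple i) (sr j) = sr j + k • sr i := by rw [one_mul, eij]
  have e3 : rep cs h ((1 : W) * cs.simple i * cs.simple j) (sr i) = (2 : ℤ) • sr i + l • sr j := by
    rw [rep_mul_apply, eji, map_add, map_smul, e2, one_mul, rep_simple_sr]
    funext z
    simp only [Pi.add_apply, Pi.smul_apply, smul_eq_mul, Pi.neg_apply]
    linear_combination sr i z * hkl
  have e4 : rep cs h ((1 : W) * cs.simple i * cs.simple j * cs.simple i) (sr j) = k • sr i + (2 : ℤ) • sr j := by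
    rw [rep_mul_apply, eij, map_add, map_smul, e3, rep_mul_apply, rep_simple_sr, map_neg, e2]
    funext z
    simp only [Pi.add_apply, Pi.smul_apply, smul_eq_mul, Pi.neg_apply]
    linear_combination sr j z * hkl
  have e5 : rep cs h ((1 : W) * cs.simple i * cs.simple j * cs.simple i * cs.simple j) (sr i) = sr i + l • sr j := by
    rw [rep_mul_apply, eji, map_add, map_smul, e4, rep_mul_apply, rep_simple_sr, map_neg, e3]
    funext z
    simp only [Pi.add_apply, Pi.smul_apply, smul_eq_mul, Pi.neg_apply]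
    linear_combination sr i z * hkl
  have e6 : rep cs h ((1 : W) * cs.simple i * cs.simple j * cs.simple i * cs.simple j * cs.simple i) (sr j) = sr j := by
    rw [rep_mul_apply, eij, map_add, map_smul, e5, rep_mul_apply, rep_simple_sr, map_neg, e4]
    funext z
    simp only [Pi.add_apply, Pi.smul_apply, smul_eq_mul, Pi.neg_apply]
    linear_combination sr j z * hkl
  have e4' : rep cs h ((1 : W) * cs.simple i * cs.simple j * cs.simple i * cs.simple j) (sr j) =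
      -(k • sr i + (2 : ℤ) • sr j) := by
    rw [rep_mul_apply, rep_simple_sr, map_neg, e4]
  have hd : d ∈ X (sr j) := by have := H'.1; rwa [map_one, Module.End.one_apply] at this
  have hc : c ∈ X (-sr i) := by have := H.2.1; rwa [map_one, Module.End.one_apply] at this
  -- the five steps
  obtain ⟨x1, hx1, y1, hy1, q1⟩ := start R hij H H' hM2
  obtain ⟨-, s1, H1, c1, K1⟩ := step' R hij hM2 1 H H' hx1 hy1 q1
  have z1 : y1 * d ∈ RGD.Sup X (S cs h ((1 : W) * cs.simple i) j i) :=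
    mul_mem (RGD.Sup_mono (S'_le_next hij hM2 1) hy1) (RGD.le_Sup (mem_next hij hM2 1) H'.1)
  obtain ⟨x2, hx2, y2, hy2, q2⟩ := exists_decomp R hij.symm hM' _ z1
  obtain ⟨-, s2, H2, f1', K2⟩ := step' R hij.symm hM' _ H1 K1 hx2 hy2 (by rw [s1, q2])
  obtain ⟨f1, hf1⟩ : ∃ f1, f1 = m⁻¹ * f * m := ⟨_, rfl⟩
  obtain ⟨m2, hm2⟩ : ∃ m2, m2 = m⁻¹ * N * m := ⟨_, rfl⟩
  rw [← hf1, ← hm2] at H1
  rw [← hf1] at s2
  rw [← hm2] at H2
  rw [← hf1, ← hm2] at K2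
  have z2 : y2 * c ∈ RGD.Sup X (S cs h ((1 : W) * cs.simple i * cs.simple j) i j) :=
    mul_mem (RGD.Sup_mono (S'_le_next hij.symm hM' _) hy2) (RGD.le_Sup (mem_next hij.symm hM' _) K1.1)
  obtain ⟨x3, hx3, y3, hy3, q3⟩ := exists_decomp R hij hM2 _ z2
  obtain ⟨-, s3, H3, c3, K3⟩ := step' R hij hM2 _ H2 K2 hx3 hy3 (by rw [s2, q3])
  obtain ⟨c2, hc2⟩ : ∃ c2, c2 = m2⁻¹ * c1 * m2 := ⟨_, rfl⟩
  obtain ⟨m3, hm3⟩ : ∃ m3, m3 = m2⁻¹ * m * m2 := ⟨_, rfl⟩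
  rw [← hc2, ← hm3] at H2
  rw [← hc2] at s3
  rw [← hm3] at H3
  rw [← hc2, ← hm3] at K3
  have z3 : y3 * f1 ∈ RGD.Sup X (S cs h ((1 : W) * cs.simple i * cs.simple j * cs.simple i) j i) :=
    mul_mem (RGD.Sup_mono (S'_le_next hij hM2 _) hy3) (RGD.le_Sup (mem_next hij hM2 _) K2.1)
  obtain ⟨x4, hx4, y4, hy4, q4⟩ := exists_decomp R hij.symm hM' _ z3
  obtain ⟨-, s4, H4, f3', K4⟩ := step' R hij.symm hM' _ H3 K3 hx4 hy4 (by rw [s3, q4])
  obtain ⟨f3, hf3⟩ : ∃ f3, f3 = m3⁻¹ * f1' * m3 := ⟨_, rfl⟩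
  obtain ⟨m4, hm4⟩ : ∃ m4, m4 = m3⁻¹ * m2 * m3 := ⟨_, rfl⟩
  rw [← hf3, ← hm4] at H3
  rw [← hf3] at s4
  rw [← hm4] at H4
  rw [← hf3, ← hm4] at K4
  have z4 : y4 * c2 ∈ RGD.Sup X (S cs h ((1 : W) * cs.simple i * cs.simple j * cs.simple i * cs.simple j) i j) :=
    mul_mem (RGD.Sup_mono (S'_le_next hij.symm hM' _) hy4) (RGD.le_Sup (mem_next hij.symm hM' _) K3.1)
  obtain ⟨x5, hx5, y5, hy5, q5⟩ := exists_decomp R hij hM2 _ z4
  obtain ⟨-, -, H5, -, -⟩ := step' R hij hM2 _ H4 K4 hx5 hy5 (by rw [s4, q5])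
  obtain ⟨m5, hm5⟩ : ∃ m5, m5 = m4⁻¹ * m3 * m4 := ⟨_, rfl⟩
  rw [← hm5] at H5
  -- `x5 = d`
  have hx5' : x5 ∈ X (sr j) := by rwa [e6] at hx5
  have hpos : ∀ z : I → ℤ, IsRoot cs h z → 0 < z i → z ∈ RGD.PosNe cs h j := by
    intro z hz h0
    refine ⟨hz, hz.pos_or_neg.resolve_right fun h1 => absurd (h1 i) (not_le.2 h0), fun h1 => ?_⟩
    rw [h1, sr_ne hij] at h0
    exact lt_irrefl _ h0
  have hneg : ∀ z : I → ℤ, IsRoot cs h z → z i < 0 → z ∈ {z : I → ℤ | IsRoot cs h z ∧ z ≤ 0 ∧ z ≠ -sr j} := by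
    intro z hz h0
    refine ⟨hz, hz.pos_or_neg.resolve_left fun h1 => absurd (h1 i) (not_le.2 h0), fun h1 => ?_⟩
    rw [h1, Pi.neg_apply, sr_ne hij, neg_zero] at h0
    exact lt_irrefl _ h0
  have hii : (sr i : I → ℤ) i = 1 := sr_self i
  have hji : (sr j : I → ℤ) i = 0 := sr_ne hij
  have p2 : x2 ∈ RGD.Sup X (RGD.PosNe cs h j) := by
    refine RGD.le_Sup (hpos _ ⟨_, _, rfl⟩ ?_) hx2
    rw [e3]; simp only [Pi.add_apply, Pi.smul_apply, smul_eq_mul, hii, hji]; norm_num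
  have p3 : x3 ∈ RGD.Sup X (RGD.PosNe cs h j) := by
    refine RGD.le_Sup (hpos _ ⟨_, _, rfl⟩ ?_) hx3
    rw [e4]; simp only [Pi.add_apply, Pi.smul_apply, smul_eq_mul, hii, hji]; omega
  have p4 : x4 ∈ RGD.Sup X (RGD.PosNe cs h j) := by
    refine RGD.le_Sup (hpos _ ⟨_, _, rfl⟩ ?_) hx4
    rw [e5]; simp only [Pi.add_apply, Pi.smul_apply, smul_eq_mul, hii, hji]; norm_num
  have p1 : y1 ∈ RGD.Sup X (RGD.PosNe cs h j) := by
    refine (RGD.Sup_le fun z hz => RGD.le_Sup (hpos z hz.1 ?_) : RGD.Sup X (S' cs h 1 i j) ≤ _) hy1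
    obtain ⟨hz, m', a', b', hm', ha', hb', e⟩ := hz
    rw [e2, map_one, Module.End.one_apply] at e
    have h1 := congrFun e i
    simp only [Pi.add_apply, Pi.smul_apply, smul_eq_mul, hii, hji] at h1
    have h2 : 0 < m' * z i := by rw [h1]; nlinarith [mul_pos ha' hk0]
    exact (mul_pos_iff_of_pos_left hm').1 h2
  have r1 : c ∈ RGD.Sup X {z : I → ℤ | IsRoot cs h z ∧ z ≤ 0 ∧ z ≠ -sr j} := by
    refine RGD.le_Sup (hneg _ (isRoot_sr cs h i).neg ?_) hc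
    rw [Pi.neg_apply, hii]; norm_num
  have r2 : f1 ∈ RGD.Sup X {z : I → ℤ | IsRoot cs h z ∧ z ≤ 0 ∧ z ≠ -sr j} := by
    refine RGD.le_Sup (hneg _ (IsRoot.neg ⟨_, _, rfl⟩) ?_) H1.2.1
    rw [e2]; simp only [Pi.neg_apply, Pi.add_apply, Pi.smul_apply, smul_eq_mul, hii, hji]; omega
  have r3 : c2 ∈ RGD.Sup X {z : I → ℤ | IsRoot cs h z ∧ z ≤ 0 ∧ z ≠ -sr j} := by
    refine RGD.le_Sup (hneg _ (IsRoot.neg ⟨_, _, rfl⟩) ?_) H2.2.1
    rw [e3]; simp only [Pi.neg_apply, Pi.add_apply, Pi.smul_apply, smul_eq_mul, hii, hji]; norm_num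
  have r4 : y5 ∈ RGD.Sup X {z : I → ℤ | IsRoot cs h z ∧ z ≤ 0 ∧ z ≠ -sr j} := by
    refine (RGD.Sup_le fun z hz => RGD.le_Sup (hneg z hz.1 ?_) : RGD.Sup X (S' cs h _ i j) ≤ _) hy5
    obtain ⟨hz, m', a', b', hm', ha', hb', e⟩ := hz
    rw [e6, e4'] at e
    have h1 := congrFun e i
    simp only [Pi.add_apply, Pi.smul_apply, Pi.neg_apply, smul_eq_mul, hii, hji] at h1
    have h2 : m' * z i < 0 := by rw [h1]; nlinarith [mul_pos hb' hk0]
    exact neg_of_mul_neg_right h2 hm'.le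
  have hfin : x5 = d := by
    refine sep_j R (u := (x2 * x3 * x4)⁻¹ * y1) (v := c * f1 * c2 * y5⁻¹)
      (mul_mem (inv_mem (mul_mem (mul_mem p2 p3) p4)) p1) (mul_mem (mul_mem (mul_mem r1 r2) r3) (inv_mem r4)) hd hx5' ?_
    have t5 : y4 * c2 * y5⁻¹ = x5 := by rw [q5]; group
    have t4 : y3 * f1 = x4 * y4 := q4
    have t3 : y2 * c = x3 * y3 := q3
    have t2 : y1 * d = x2 * y2 := q2
    calc (x2 * x3 * x4)⁻¹ * y1 * d * (c * f1 * c2 * y5⁻¹)
        = x4⁻¹ * x3⁻¹ * x2⁻¹ * (y1 * d) * c * f1 * c2 * y5⁻¹ := by group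
      _ = x4⁻¹ * x3⁻¹ * (y2 * c) * f1 * c2 * y5⁻¹ := by rw [t2]; group
      _ = x4⁻¹ * (y3 * f1) * c2 * y5⁻¹ := by rw [t3]; group
      _ = y4 * c2 * y5⁻¹ := by rw [t4]; group
      _ = x5 := t5
  rw [hfin] at H5
  have h9 := H'.uniq' R H5 (by rw [e6, map_one, Module.End.one_apply])
  -- `m₁ m₂ = m₂ m₃ = m₃ m₄ = m₄ m₅ = m₅ N = N m`
  have g1 : m * m2 = N * m := by rw [hm2]; group
  have g2 : m2 * m3 = N * m := by rw [hm3, ← g1]; group
  have g3 : m3 * m4 = N * m := by rw [hm4, ← g2]; group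
  have g4 : m4 * m5 = N * m := by rw [hm5, ← g3]; group
  have g5 : m5 * N = N * m := by rw [← g4, ← h9]; group
  calc m * N * m * N * m * N = m * (N * m) * (N * m) * N := by group
    _ = m * (m2 * m3) * (m4 * m5) * N := by rw [g2, g4]
    _ = (m * m2) * (m3 * m4) * (m5 * N) := by group
    _ = N * m * N * m * N * m := by rw [g1, g3, g5]; group

end

end Cfsg.Agent.H396.PC
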