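import Cfsg.Agent.H396.PC.RowData
import Cfsg.Agent.H928.Ad.Chev
import Cfsg.Agent.H783.CGTable
import Cfsg.Agent.H40.Ch.Chev
import Cfsg.Agent.S4613

/-!
# S4829, own characteristic `p` odd: the exceptional Chevalley groups (helper396)

`rowA_chev` : a tabulated type with `CommGen`; `row_g2` (`|F| > 3`), `row_f4`, `row_e6`, `row_e7`, `row_e8`.
-/

set_option autoImplicit false
set_option linter.unusedSectionVars false

namespace Cfsg.Agent.H396.PC

open Cfsg Cfsg.Agent.H148.GG Cfsg.Agent.H40.OC Cfsg.Agent.H928.Ad Cfsg.Agent.H770.CY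
open Cfsg.Lie Cfsg.Agent.Nodes Cfsg.Agent.Nodes.RGDChev Cfsg.Agent.Nodes.RGDLib
open Cfsg.Agent.ChevalleyStructure.CoxeterGeomTypes Cfsg.Agent.ChevalleyStructure.Elts
open Cfsg.Agent.Omega.EH3.Kf Cfsg.Agent.H396 Cfsg.Agent.H783 Cfsg.Agent.KFacts.RgdChevCoord
open Cfsg.Agent.Omega.EH3.Kf.Lev (CommGen comm_of_sl)
open Cfsg.Agent.H396.CommTab
open Cfsg.Agent.H712.OC (eta)
open Cfsg.Agent.Tits.Roots CoxeterSystem Cfsg.Agent.ChevalleyStructure

universe u

/-- the torus elements `h_j(c)` -/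
theorem exists_t {D : ChevalleyDatum} {l : ℕ} {M : CoxeterMatrix (Fin l)} (hp : IsType D l M) (K : Type u) [Field K]
    (j : Fin l) (c : Kˣ) : ∃ t ∈ TT D K, ∀ (i : Fin l) (a : K), t * xc hp (sr i) a * t⁻¹ =
      xc hp (sr i) (((c ^ cartanOf D l j i : Kˣ) : K) * a) := by
  have hD := hp.inList
  have hlt : ∀ i : Fin l, D.simple i < D.nroots := fun i =>
    (Cfsg.Agent.ChevalleyStructure.RootComb.good_of_mem hD).simple_lt (lt_rank hp i)
  refine ⟨⟨hG hD (D.simple j) (c : K), hG_mem_group hD _ _⟩, ?_, fun i a => ?_⟩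
  · exact Subgroup.mem_subgroupOf.2 (hG_mem_diagonal hD (hlt j) c.ne_zero)
  · rw [← vec_simple hp i]
    apply Subtype.ext
    rw [Subgroup.coe_mul, Subgroup.coe_mul, Subgroup.coe_inv, coe_xc hp (hlt i), coe_xc hp (hlt i), mul_inv_eq_iff_eq_mul]
    refine Units.ext ?_
    rw [Units.val_mul, Units.val_mul, coe_xG, coe_xG, coe_hG, cartanOf_def, Units.val_zpow_eq_zpow_val]
    exact S1032.result D hD j (D.simple i) (lt_rank hp j) (hlt i) (c : K) c.ne_zero a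

/-- an end node -/
theorem exists_leaf {D : ChevalleyDatum} {l : ℕ} {M : CoxeterMatrix (Fin l)} (hp : IsType D l M) :
    ∃ j : Fin l, ∏ i, (-1 : ℤˣ) ^ cartanOf D l j i = -1 := by
  simp only [IsType, typeList, List.mem_cons, List.not_mem_nil, or_false, Prod.mk.injEq] at hp
  rcases hp with ⟨rfl, e⟩ | ⟨rfl, e⟩ | ⟨rfl, e⟩ | ⟨rfl, e⟩ | ⟨rfl, e⟩ | ⟨rfl, e⟩ | ⟨rfl, e⟩ <;>
    (obtain rfl : l = _ := congrArg Sigma.fst e)
  · exact ⟨0, by decide +kernel⟩
  · exact ⟨1, by decide +kernel⟩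
  · exact ⟨0, by decide +kernel⟩
  · exact ⟨0, by decide +kernel⟩
  · exact ⟨0, by decide +kernel⟩
  · exact ⟨0, by decide +kernel⟩
  · exact ⟨0, by decide +kernel⟩

/-- a non-square -/
theorem exists_eta_neg (K : Type u) [Field K] [Finite K] {p : ℕ} [hp : Fact p.Prime] [CharP K p] (hp2 : p ≠ 2) :
    ∃ c : Kˣ, eta K c = -1 := by
  have := Fintype.ofFinite K
  obtain ⟨k, -, hk⟩ := FiniteField.card K p
  have hodd : Odd (Nat.card K) := by
    rw [Nat.card_eq_fintype_card, hk]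
    exact (hp.out.odd_of_ne_two hp2).pow
  obtain ⟨g, hg⟩ := IsCyclic.exists_generator (α := Kˣ)
  exact ⟨g, Cfsg.Agent.H712.OC.eta_gen hodd hg⟩

/-- **a tabulated type** -/
theorem rowA_chev {p : ℕ} [hpp : Fact p.Prime] (hp2 : p ≠ 2) {D : ChevalleyDatum} {l : ℕ} {M : CoxeterMatrix (Fin l)}
    (hp : IsType D l M) (K : Type u) [Field K] [Finite K] [CharP K p]
    (hC : CommGen M.toCoxeterSystem hp.isCartan (fun x => (XV D l K x).subgroupOf (D.group K)))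
    {X : Type u} [Group X] [Fintype X] [IsSimpleGroup X] (hna : ¬ IsMulCommutative X) (hL : IsLieTypeChar p X)
    (e : X ≃* ↥(D.group K)) : RowA p X := by
  have : Finite M.Group := finite_W hp M.toCoxeterSystem
  have hfin : Finite ↥(D.group K) := Finite.of_equiv X e.toEquiv
  have := Fintype.ofFinite ↥(D.group K)
  have hs : IsSimpleGroup ↥(D.group K) := e.symm.isSimpleGroup
  have hna' : ¬ IsMulCommutative ↥(D.group K) := fun h => hna ⟨⟨fun a b => e.injective (by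
    rw [map_mul, map_mul]
    exact h.is_comm.comm _ _)⟩⟩
  obtain ⟨φ, -, hφ⟩ := Chev.anti (K := K) hp M.toCoxeterSystem p
  obtain ⟨j, hj⟩ := exists_leaf hp
  obtain ⟨c, hc⟩ := exists_eta_neg K hp2
  obtain ⟨t, ht, htc⟩ := exists_t hp K j c
  refine H776.CY.RowA.congr e ?_
  refine rowA_data hna' hp2 (Chev.data (K := K) hp M.toCoxeterSystem p) hC hφ
    (hOne_congr e fun a ha ⟨Q, hQ⟩ => Cfsg.Agent.S4613.result p hL a ha Q hQ) ht
    (fun i => c ^ cartanOf D l j i) htc ?_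
  rw [← hj]
  exact Finset.prod_congr rfl fun i _ => by rw [map_zpow, hc]

/-- simply laced types -/
theorem rowA_sl {p : ℕ} [hpp : Fact p.Prime] (hp2 : p ≠ 2) {D : ChevalleyDatum} {l : ℕ} {M : CoxeterMatrix (Fin l)}
    (hp : IsType D l M) (K : Type u) [Field K] [Finite K] [CharP K p] (h4 : ∀ i j, M i j ≠ 4) (h6 : ∀ i j, M i j ≠ 6)
    {X : Type u} [Group X] [Fintype X] [IsSimpleGroup X] (hna : ¬ IsMulCommutative X) (hL : IsLieTypeChar p X)
    (e : X ≃* ↥(D.group K)) : RowA p X := by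
  have : Finite M.Group := finite_W hp M.toCoxeterSystem
  exact rowA_chev hp2 hp K (comm_of_sl (rgd (K := K) hp M.toCoxeterSystem p)
    (Cfsg.Agent.KFacts.RgdFiltWitt.sl_of_ne h4 h6)) hna hL e

variable {p : ℕ} (hp2 : p ≠ 2)

include hp2

/-- **the row of `E₆(q)`** -/
theorem row_e6 : RowForA p (fun X _ => ∃ (F : Type) (_ : Field F) (_ : Fintype F) (_ : CharP F p),
    Nonempty (X ≃* Lie.chevE6.group F)) := by
  rintro X _ _ _ hna - ⟨F, i1, i2, i3, ⟨e⟩⟩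
  have : Fact p.Prime := ⟨CharP.char_is_prime F p⟩
  have hL : IsLieTypeChar p X := Or.inr (Or.inr (Or.inr (Or.inr (Or.inr (Or.inr (Or.inl
    ⟨F, i1, i2, i3, Or.inr (Or.inr (Or.inl ⟨e⟩))⟩))))))
  exact rowA_sl hp2 (l := 6) (M := CoxeterMatrix.E₆) (by simp [IsType, typeList]) F (fun i j => (lab_E6 i j).1)
    (fun i j => (lab_E6 i j).2) hna hL e

/-- **the row of `E₇(q)`** -/
theorem row_e7 : RowForA p (fun X _ => ∃ (F : Type) (_ : Field F) (_ : Fintype F) (_ : CharP F p),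
    Nonempty (X ≃* Lie.chevE7.group F)) := by
  rintro X _ _ _ hna - ⟨F, i1, i2, i3, ⟨e⟩⟩
  have : Fact p.Prime := ⟨CharP.char_is_prime F p⟩
  have hL : IsLieTypeChar p X := Or.inr (Or.inr (Or.inr (Or.inr (Or.inr (Or.inr (Or.inl
    ⟨F, i1, i2, i3, Or.inr (Or.inr (Or.inr (Or.inl ⟨e⟩)))⟩))))))
  exact rowA_sl hp2 (l := 7) (M := CoxeterMatrix.E₇) (by simp [IsType, typeList]) F (fun i j => (lab_E7 i j).1)
    (fun i j => (lab_E7 i j).2) hna hL e

/-- **the row of `E₈(q)`** -/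
theorem row_e8 : RowForA p (fun X _ => ∃ (F : Type) (_ : Field F) (_ : Fintype F) (_ : CharP F p),
    Nonempty (X ≃* Lie.chevE8.group F)) := by
  rintro X _ _ _ hna - ⟨F, i1, i2, i3, ⟨e⟩⟩
  have : Fact p.Prime := ⟨CharP.char_is_prime F p⟩
  have hL : IsLieTypeChar p X := Or.inr (Or.inr (Or.inr (Or.inr (Or.inr (Or.inr (Or.inl
    ⟨F, i1, i2, i3, Or.inr (Or.inr (Or.inr (Or.inr ⟨e⟩)))⟩))))))
  exact rowA_sl hp2 (l := 8) (M := CoxeterMatrix.E₈) (by simp [IsType, typeList]) F (fun i j => (lab_E8 i j).1)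
    (fun i j => (lab_E8 i j).2) hna hL e

/-- **the row of `F₄(q)`** -/
theorem row_f4 : RowForA p (fun X _ => ∃ (F : Type) (_ : Field F) (_ : Fintype F) (_ : CharP F p),
    Nonempty (X ≃* Lie.chevF4.group F)) := by
  rintro X _ _ _ hna - ⟨F, i1, i2, i3, ⟨e⟩⟩
  have : Fact p.Prime := ⟨CharP.char_is_prime F p⟩
  have : NeZero (2 : F) := ⟨fun h => hp2 ((Nat.prime_dvd_prime_iff_eq Fact.out Nat.prime_two).1
    ((CharP.cast_eq_zero_iff F p 2).1 (by exact_mod_cast h)))⟩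
  have hL : IsLieTypeChar p X := Or.inr (Or.inr (Or.inr (Or.inr (Or.inr (Or.inr (Or.inl
    ⟨F, i1, i2, i3, Or.inr (Or.inl ⟨e⟩)⟩))))))
  exact rowA_chev hp2 Omega.ML.Ex.Lie2.DatF4.isType_F4 F
    (Omega.ML.Ex.Lie2.DatF4.commGen_F4 ⟨-1, neg_ne_zero.2 one_ne_zero, fun h => two_ne_zero (α := F) (by
      rw [← one_add_one_eq_two]
      nth_rewrite 1 [← h]
      exact neg_add_cancel 1)⟩) hna hL e

/-- **the row of `G₂(q)`, `q > 3`** -/
theorem row_g2 : RowForA p (fun X _ => ∃ (F : Type) (_ : Field F) (_ : Fintype F) (_ : CharP F p), 3 < Fintype.card F ∧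
    Nonempty (X ≃* Lie.chevG2.group F)) := by
  rintro X _ _ _ hna - ⟨F, i1, i2, i3, h3, ⟨e⟩⟩
  classical
  have : Fact p.Prime := ⟨CharP.char_is_prime F p⟩
  have hL : IsLieTypeChar p X := Or.inr (Or.inr (Or.inr (Or.inr (Or.inr (Or.inr (Or.inl
    ⟨F, i1, i2, i3, Or.inl ⟨h3.le, ⟨e⟩⟩⟩))))))
  have hK' : ∃ a a' : F, a ≠ 0 ∧ a ≠ 1 ∧ a' ≠ 0 ∧ a' ≠ 1 ∧ a ≠ a' := by
    have h5 : 2 ≤ (((Finset.univ : Finset F).erase 0).erase 1).card := by
      rw [Finset.card_erase_of_mem (by simp), Finset.card_erase_of_mem (by simp), Finset.card_univ]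
      omega
    obtain ⟨a, ha, b, hb, hab⟩ := Finset.one_lt_card.1 h5
    simp only [Finset.mem_erase, Finset.mem_univ, and_true] at ha hb
    exact ⟨a, b, ha.2, ha.1, hb.2, hb.1, hab⟩
  exact rowA_chev hp2 (l := 2) (M := CoxeterMatrix.G₂) (by simp [IsType, typeList]) F (commGen_G2 F hK') hna hL e

end Cfsg.Agent.H396.PC
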